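import Groth.Agent.Key50.Local
import Groth.Agent.CycAlg50.Periodic
import Groth.Agent.Glue50.Punctured
import Groth.Agent.TameAlg50.Trans
import Mathlib.RingTheory.Ideal.Quotient.Operations

/-! The key lemma: the orders of the tame symbols sum to zero. -/

set_option autoImplicit false
set_option linter.unusedSectionVars false
set_option linter.style.haveILetI false

universe u

namespace Groth.Agent.Key50

open CycAlg IsLocalRing LinearMap
open Groth.Agent

section Prep

variable {A : Type u} [CommRing A] [IsNoetherianRing A] [IsLocalRing A]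

theorem algebraMap_mem_nonZeroDivisors (p : Ideal A) [p.IsPrime] {x : A} (hx : x ∈ nonZeroDivisors A) :
    algebraMap A (Localization.AtPrime p) x ∈ nonZeroDivisors (Localization.AtPrime p) := by
  refine mem_nonZeroDivisors_iff_right.2 fun y hy => ?_
  obtain ⟨c, s, rfl⟩ := IsLocalization.exists_mk'_eq p.primeCompl y
  rw [mul_comm, IsLocalization.mul_mk'_eq_mk'_of_mul, IsLocalization.mk'_eq_zero_iff] at hy
  obtain ⟨m, hm⟩ := hy
  rw [mul_left_comm] at hm
  refine (IsLocalization.mk'_eq_zero_iff c s).2 ⟨m, ?_⟩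
  exact mem_nonZeroDivisors_iff_right.1 hx _ (by rwa [mul_comm] at hm)

variable (hA : ringKrullDim A = 2) {t : A} (ht : t ∈ nonZeroDivisors A) {q : Ideal A} [q.IsPrime]
  (hqm : q ≠ maximalIdeal A) (htq : t ∈ q)

include hA ht hqm htq

theorem hmax_of : ∀ p : Ideal A, p.IsPrime → q ≤ p → p = q ∨ p = maximalIdeal A := fun p hp hle => by
  by_cases h : p = maximalIdeal A
  · exact Or.inr h
  · exact Or.inl (Glue50.Punctured.eq_of_le hA ht inferInstance hp h htq hle).symm

theorem dimLE_of : Ring.KrullDimLE 1 (A ⧸ q) := by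
  refine Ring.KrullDimLE.mk₁' fun I hI hp => ?_
  haveI := hp
  have hle : q ≤ I.comap (Ideal.Quotient.mk q) := fun x hx => by
    rw [Ideal.mem_comap, Ideal.Quotient.eq_zero_iff_mem.2 hx]; exact zero_mem _
  rcases hmax_of hA ht hqm htq _ (hp.comap _) hle with h | h
  · refine absurd ?_ hI
    rw [← Ideal.map_comap_of_surjective _ Ideal.Quotient.mk_surjective I, h, Ideal.map_quotient_self]
  · have hm : (I.comap (Ideal.Quotient.mk q)).IsMaximal := h ▸ IsLocalRing.maximalIdeal.isMaximal A
    rw [← Ideal.map_comap_of_surjective _ Ideal.Quotient.mk_surjective I]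
    exact (Ideal.map_eq_top_or_isMaximal_of_surjective _ Ideal.Quotient.mk_surjective hm).resolve_left
      (by rw [Ideal.map_comap_of_surjective _ Ideal.Quotient.mk_surjective I]; exact hp.ne_top)

theorem height_eq_one : q.height = 1 := by
  have h2 : (maximalIdeal A).height = 2 := by
    have := IsLocalRing.maximalIdeal_height_eq_ringKrullDim (R := A)
    rw [hA] at this
    exact WithBot.coe_injective this
  have h3 : q.height < (maximalIdeal A).height :=
    Ideal.height_strict_mono_of_isPrime (lt_of_le_of_ne (le_maximalIdeal (Ideal.IsPrime.ne_top inferInstance)) hqm)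
  have h0 : q.height ≠ 0 := fun h => by
    rw [Ideal.height_eq_zero_iff] at h
    exact (Ideal.disjoint_nonZeroDivisors_of_mem_minimalPrimes h).le_bot ⟨htq, ht⟩
  rw [h2] at h3
  lift q.height to ℕ using ne_top_of_lt h3 with k
  norm_cast at h3 h0 ⊢
  omega

theorem dim_one : ringKrullDim (Localization.AtPrime q) = 1 := by
  rw [IsLocalization.AtPrime.ringKrullDim_eq_height q (Localization.AtPrime q), height_eq_one hA ht hqm htq]
  rfl

end Prep

variable {A : Type u} [CommRing A] [IsNoetherianRing A] [IsLocalRing A]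

theorem smul_eq_zero_of_mem {R S : Type u} [CommRing R] [CommRing S] [Algebra R S] {I : Ideal S} {r : R}
    (h : algebraMap R S r ∈ I) (x : S ⧸ I) : r • x = 0 := by
  obtain ⟨y, rfl⟩ := Ideal.Quotient.mk_surjective x
  rw [← Ideal.Quotient.mkₐ_eq_mk R, ← map_smul, Ideal.Quotient.mkₐ_eq_mk, Ideal.Quotient.eq_zero_iff_mem,
    Algebra.smul_def]
  exact I.mul_mem_right y h

theorem ordFrac_prod {R K : Type u} [CommRing R] [IsDomain R] [IsNoetherianRing R] [Ring.KrullDimLE 1 R]
    [Field K] [Algebra R K] [IsFractionRing R K] {ι : Type*} (s : Finset ι) (f : ι → K) (hf : ∀ i, f i ≠ 0) :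
    CycAlg.ordFrac R K (∏ i ∈ s, f i) = ∑ i ∈ s, CycAlg.ordFrac R K (f i) := by
  classical
  induction s using Finset.induction_on with
  | empty =>
    have := Len90.ordFrac_mul (A := R) (1 : K) 1 one_ne_zero one_ne_zero
    rw [mul_one] at this
    simp only [Finset.prod_empty, Finset.sum_empty]
    omega
  | insert a s ha ih =>
    rw [Finset.prod_insert ha, Finset.sum_insert ha,
      Len90.ordFrac_mul _ _ (hf a) (Finset.prod_ne_zero_iff.2 fun i _ => hf i), ih]

/-- The Herbrand quotients of an exact complex split by primes sum to zero. -/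
theorem sum_herbrand {C : Type u} [AddCommGroup C] [Module A C] [Module.Finite A C] {a b : A}
    (hreg : ∀ x ∈ ({a, b} : Set A), Function.Injective (lsmul A C x)) {r : ℕ} (q : Fin r → Ideal A)
    (hV : ∀ p : Ideal A, p.IsPrime → a * b ∈ p → p = maximalIdeal A ∨ ∃ i, p = q i)
    {T : Type u} [Fintype T] (π : T → Fin r) (L : T → Type u) [∀ k, AddCommGroup (L k)] [∀ k, Module A (L k)]
    [∀ k, Module.Finite A (L k)] (ev : ∀ k, C →ₗ[A] L k)
    (hkill : ∀ (k : T) (x : L k), (a * b) • x = 0)
    (hfin : ∀ k, FinCoh A (a • LinearMap.id : L k →ₗ[A] L k) (b • LinearMap.id))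
    (hker : ∀ (j : Fin r) (c : C), (∀ k, π k = j → ev k c = 0) →
      ∃ s : A, s ∉ q j ∧ ∃ d, s • c = (a * b) • d)
    (hsep : ∀ (j : Fin r) (k : T), π k ≠ j → ∃ s : A, s ∉ q j ∧ ∀ x : L k, s • x = 0)
    (hsurj : ∀ (j : Fin r) (y : ∀ k, L k), ∃ s : A, s ∉ q j ∧ ∃ c, ∀ k, π k = j → ev k c = s • y k)
    (hq : ∀ i, (q i).IsPrime) :
    ∑ k, herbrand A (a • LinearMap.id : L k →ₗ[A] L k) (b • LinearMap.id) = 0 := by
  classical
  let D := range (lsmul A C a ∘ₗ lsmul A C b)
  have hDmem : ∀ c : C, (a * b) • c ∈ D := fun c => ⟨c, (smul_smul a b c)⟩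
  obtain ⟨hperM, hM1, hM2⟩ := CycAlg50.exact_periodic (lsmul A C a) (lsmul A C b) (hreg a (Or.inl rfl))
    (hreg b (Or.inr rfl)) (congrArg range (LinearMap.ext fun x => smul_comm a b x))
    (a • LinearMap.id) (b • LinearMap.id) (fun x => rfl) (fun x => rfl)
  have hfinM : FinCoh A (a • LinearMap.id : (C ⧸ D) →ₗ[A] (C ⧸ D)) (b • LinearMap.id) :=
    ⟨by rw [Module.length_eq_zero]; exact ENat.top_pos, by rw [Module.length_eq_zero]; exact ENat.top_pos⟩
  have hherM : herbrand A (a • LinearMap.id : (C ⧸ D) →ₗ[A] (C ⧸ D)) (b • LinearMap.id) = 0 := by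
    rw [herbrand, Module.length_eq_zero, Module.length_eq_zero, sub_self]
  let F0 : C →ₗ[A] ∀ k : T, L k := LinearMap.pi ev
  have hF0 : D ≤ ker F0 := by
    rintro _ ⟨c, rfl⟩
    rw [LinearMap.mem_ker]
    refine funext fun k => ?_
    show F0 (a • b • c) k = 0
    rw [smul_smul, map_smul]
    exact hkill k _
  let F : (C ⧸ D) →ₗ[A] ∀ k : T, L k := D.liftQ F0 hF0
  obtain ⟨hfinP, hherP⟩ := herbrand_pi (fun k => (a • LinearMap.id : L k →ₗ[A] L k))
    (fun k => (b • LinearMap.id : L k →ₗ[A] L k)) hfin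
  have hperP : IsPeriodic (piMap fun k => (a • LinearMap.id : L k →ₗ[A] L k))
      (piMap fun k => (b • LinearMap.id : L k →ₗ[A] L k)) := by
    constructor <;> refine LinearMap.ext fun x => funext fun k => ?_
    · exact (smul_smul a b (x k)).trans (hkill k (x k))
    · exact (smul_smul b a (x k)).trans ((congrArg (· • x k) (mul_comm b a)).trans (hkill k (x k)))
  have hkerF : Module.length A (ker F) < ⊤ := by
    refine finite_of_killed _ fun p hp x => ?_
    by_cases htp : a * b ∈ p.asIdeal
    swap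
    · refine ⟨a * b, htp, Subtype.ext ?_⟩
      obtain ⟨c, hc⟩ := Submodule.Quotient.mk_surjective D x.1
      show (a * b) • x.1 = 0
      rw [← hc, ← Submodule.Quotient.mk_smul, Submodule.Quotient.mk_eq_zero]
      exact hDmem c
    obtain h | ⟨j, hj⟩ := hV _ p.isPrime htp
    · exact absurd h hp
    obtain ⟨c, hc⟩ := Submodule.Quotient.mk_surjective D x.1
    obtain ⟨s, hs, d, hd⟩ := hker j c fun k _ => by
      have := LinearMap.mem_ker.1 x.2
      rw [← hc] at this
      exact congrFun this k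
    refine ⟨s, hj ▸ hs, Subtype.ext ?_⟩
    show s • x.1 = 0
    rw [← hc, ← Submodule.Quotient.mk_smul, Submodule.Quotient.mk_eq_zero, hd]
    exact hDmem _
  have hcokF : Module.length A ((∀ k : T, L k) ⧸ range F) < ⊤ := by
    refine finite_of_killed _ fun p hp x => ?_
    obtain ⟨y, rfl⟩ := Submodule.Quotient.mk_surjective _ x
    by_cases htp : a * b ∈ p.asIdeal
    swap
    · refine ⟨a * b, htp, ?_⟩
      rw [← Submodule.Quotient.mk_smul, show (a * b) • y = 0 from funext fun k => hkill k (y k)]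
      rfl
    obtain h | ⟨j, hj⟩ := hV _ p.isPrime htp
    · exact absurd h hp
    suffices h : ∃ s : A, s ∉ q j ∧ s • y ∈ range F by
      obtain ⟨s, hs, hsy⟩ := h
      exact ⟨s, hj ▸ hs, by rw [← Submodule.Quotient.mk_smul, Submodule.Quotient.mk_eq_zero]; exact hsy⟩
    choose sep hsepq hsep' using fun k : {k : T // π k ≠ j} => hsep j k.1 k.2
    let s0 := ∏ k, sep k
    have hs0 : s0 ∉ q j := fun h => by
      obtain ⟨k, -, hk⟩ := Ideal.IsPrime.prod_mem_iff (hp := hq j) |>.1 h
      exact hsepq k hk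
    have hs0' : ∀ (k : T), π k ≠ j → ∀ x : L k, s0 • x = 0 := fun k hk x => by
      rw [show s0 = (∏ k' ∈ Finset.univ.erase ⟨k, hk⟩, sep k') * sep ⟨k, hk⟩ from
        (Finset.prod_erase_mul _ _ (Finset.mem_univ _)).symm, mul_smul, hsep' ⟨k, hk⟩ x, smul_zero]
    obtain ⟨s, hs, d, hd⟩ := hsurj j y
    refine ⟨s0 * s, fun h => ((hq j).mem_or_mem h).elim hs0 hs,
      Submodule.Quotient.mk (s0 • d), funext fun k => ?_⟩
    show F0 (s0 • d) k = _
    rw [map_smul, Pi.smul_apply, Pi.smul_apply, mul_smul]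
    by_cases hk : π k = j
    · exact congrArg (s0 • ·) (hd k hk)
    · rw [hs0' k hk, hs0' k hk]
  have hmain := CycAlg50.herbrand_eq_of_finite_ker_coker hperM hperP F
    (Submodule.linearMap_qext _ (LinearMap.ext fun c => funext fun k => by
      show a • F0 c k = F0 (a • c) k
      rw [map_smul, Pi.smul_apply]))
    (Submodule.linearMap_qext _ (LinearMap.ext fun c => funext fun k => by
      show b • F0 c k = F0 (b • c) k
      rw [map_smul, Pi.smul_apply]))
    hfinM hfinP hkerF hcokF
  rw [hherM, hherP] at hmain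
  exact hmain.symm

/-- The sum over given gluing data. -/
theorem sum_of_data (hA : ringKrullDim A = 2) {a b : A} (ha : a ∈ nonZeroDivisors A)
    (hb : b ∈ nonZeroDivisors A) {r : ℕ} (q : Fin r → Ideal A) [∀ i, (q i).IsPrime]
    (hinj : Function.Injective q) (hqm : ∀ i, q i ≠ maximalIdeal A) (htq : ∀ i, a * b ∈ q i)
    (hV : ∀ p : Ideal A, p.IsPrime → a * b ∈ p → p = maximalIdeal A ∨ ∃ i, p = q i)
    (B : Fin r → Type u) [∀ i, CommRing (B i)] [∀ i, IsNoetherianRing (B i)]
    [∀ i, Algebra (Localization.AtPrime (q i)) (B i)] [∀ i, Module.Finite (Localization.AtPrime (q i)) (B i)]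
    [∀ i, Algebra A (B i)] [∀ i, IsScalarTower A (Localization.AtPrime (q i)) (B i)]
    (hExt : ∀ i, TameAlg50.Ext (Localization.AtPrime (q i)) (B i))
    (hFac : ∀ i, TameAlg50.FacAll (B i)
      ![algebraMap A (Localization.AtPrime (q i)) a, algebraMap A (Localization.AtPrime (q i)) b])
    (C : Type u) [CommRing C] [Algebra A C] [Module.Finite A C] (ψ : ∀ i, C →ₐ[A] B i)
    (hψ : ∀ i, IsLocalizedModule (q i).primeCompl (ψ i).toLinearMap)
    (hreg : ∀ x ∈ ({a, b} : Set A), Function.Injective (lsmul A C x)) :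
    ∑ i, CycAlg.ordFrac (A ⧸ q i) (q i).ResidueField (CycAlg.tameSymbol (Localization.AtPrime (q i))
      (algebraMap A (Localization.AtPrime (q i)) a) (algebraMap A (Localization.AtPrime (q i)) b)) = 0 := by
  classical
  have htnz : a * b ∈ nonZeroDivisors A := mul_mem ha hb
  haveI hdimQ : ∀ i, Ring.KrullDimLE 1 (A ⧸ q i) := fun i => dimLE_of hA htnz (hqm i) (htq i)
  have hdim : ∀ i, ringKrullDim (Localization.AtPrime (q i)) = 1 := fun i => dim_one hA htnz (hqm i) (htq i)
  haveI : ∀ i, Ring.KrullDimLE 1 (Localization.AtPrime (q i)) := fun i => Ring.krullDimLE_iff.2 (hdim i).le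
  -- the components
  haveI : ∀ i, Finite (MaximalSpectrum (B i)) := fun i =>
    TameAlg50.finite_maximalSpectrum (A := Localization.AtPrime (q i))
  letI : ∀ i, Fintype (MaximalSpectrum (B i)) := fun i => Fintype.ofFinite _
  let T := Σ i, MaximalSpectrum (B i)
  let S : T → Type u := fun k => Localization.AtPrime k.2.asIdeal
  haveI hloc : ∀ k : T, IsLocalHom (algebraMap (Localization.AtPrime (q k.1)) (Localization.AtPrime k.2.asIdeal)) :=
    fun k => TameAlg50.isLocalHom_atPrime k.2
  let ψS : ∀ k : T, C →ₐ[A] Localization.AtPrime k.2.asIdeal := fun k =>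
    (IsScalarTower.toAlgHom A (B k.1) (Localization.AtPrime k.2.asIdeal)).comp (ψ k.1)
  let J : ∀ k : T, Ideal (Localization.AtPrime k.2.asIdeal) := fun k =>
    Ideal.span {algebraMap A (Localization.AtPrime k.2.asIdeal) (a * b)}
  haveI : ∀ k : T, IsScalarTower A (Localization.AtPrime (q k.1)) (Localization.AtPrime k.2.asIdeal) := fun k =>
    IsScalarTower.of_algebraMap_eq fun x => by
      rw [IsScalarTower.algebraMap_apply A (B k.1) (Localization.AtPrime k.2.asIdeal),
        IsScalarTower.algebraMap_apply A (Localization.AtPrime (q k.1)) (B k.1),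
        ← IsScalarTower.algebraMap_apply]
  have htS : ∀ k : T, algebraMap A (Localization.AtPrime k.2.asIdeal) (a * b) ∈
      nonZeroDivisors (Localization.AtPrime k.2.asIdeal) := fun k => by
    rw [IsScalarTower.algebraMap_apply A (Localization.AtPrime (q k.1))]
    exact TameAlg50.regular_localization (hExt k.1) k.2 (algebraMap_mem_nonZeroDivisors (q k.1) htnz)
  have hdimS : ∀ k : T, ringKrullDim (Localization.AtPrime k.2.asIdeal) = 1 := fun k =>
    TameAlg50.dim_local (hdim k.1) (hExt k.1)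
      ((IsLocalization.AtPrime.to_map_mem_maximal_iff _ (q k.1) _).2 (htq k.1))
      (algebraMap_mem_nonZeroDivisors (q k.1) htnz) k.2
  haveI : ∀ k : T, Ring.KrullDimLE 1 (Localization.AtPrime k.2.asIdeal) := fun k => Ring.krullDimLE_iff.2 (hdimS k).le
  choose K hK using fun k : T => TameAlg50.exists_pow_le_span (hdimS k) (htS k)
  have hnil : ∀ (k : T), ∀ x ∈ maximalIdeal (Localization.AtPrime k.2.asIdeal), ∃ m, x ^ m ∈ J k :=
    fun k x hx => ⟨K k, hK k (Ideal.pow_mem_pow hx _)⟩
  have hlift : ∀ (i : Fin r) (β : B i), ∃ s : A, s ∉ q i ∧ ∃ c : C, s • β = ψ i c := fun i β => by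
    haveI := hψ i
    obtain ⟨⟨c, s⟩, hc⟩ := IsLocalizedModule.surj (q i).primeCompl (ψ i).toLinearMap β
    exact ⟨s.1, s.2, c, hc⟩
  have hmod : ∀ (k : T) (β γ : B k.1), β - γ ∈ k.2.asIdeal ^ K k →
      algebraMap (B k.1) (Localization.AtPrime k.2.asIdeal) β -
        algebraMap (B k.1) (Localization.AtPrime k.2.asIdeal) γ ∈ J k := fun k β γ h => by
    rw [← map_sub]
    refine hK k ?_
    rw [← Localization.AtPrime.map_eq_maximalIdeal, ← Ideal.map_pow]
    exact Ideal.mem_map_of_mem _ h
  have hsurj : ∀ (k : T) (y : Localization.AtPrime k.2.asIdeal), ∃ s : A, s ∉ q k.1 ∧ ∃ c : C,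
      algebraMap A _ s * y - ψS k c ∈ J k := fun k y => by
    obtain ⟨β0, σ, rfl⟩ := IsLocalization.exists_mk'_eq k.2.asIdeal.primeCompl y
    have h1 : Ideal.span {(σ : B k.1)} ⊔ k.2.asIdeal ^ K k = ⊤ := by
      refine Ideal.sup_pow_eq_top (by_contra fun hne => ?_)
      have heq := k.2.isMaximal.eq_of_le hne le_sup_right
      exact σ.2 (heq.ge (Submodule.mem_sup_left (Ideal.mem_span_singleton_self (σ : B k.1))))
    rw [Ideal.eq_top_iff_one, Submodule.mem_sup] at h1
    obtain ⟨u, hu, v, hv, huv⟩ := h1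
    obtain ⟨c, rfl⟩ := Ideal.mem_span_singleton'.1 hu
    obtain ⟨s, hs, c', hc'⟩ := hlift k.1 (β0 * c)
    refine ⟨s, hs, c', ?_⟩
    have hψS : ψS k c' = algebraMap A _ s * algebraMap (B k.1) _ (β0 * c) := by
      show algebraMap (B k.1) _ (ψ k.1 c') = _
      rw [← hc', Algebra.smul_def, map_mul, ← IsScalarTower.algebraMap_apply]
    rw [hψS, ← mul_sub]
    refine Ideal.mul_mem_left _ _ ?_
    have h2 : IsLocalization.mk' (Localization.AtPrime k.2.asIdeal) β0 σ - algebraMap (B k.1) _ (β0 * c) =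
        IsLocalization.mk' (Localization.AtPrime k.2.asIdeal) β0 σ *
          (algebraMap (B k.1) _ 1 - algebraMap (B k.1) _ (c * σ)) := by
      rw [mul_sub, map_one, mul_one, map_mul, map_mul, mul_left_comm, IsLocalization.mk'_spec]
      ring
    rw [h2]
    exact Ideal.mul_mem_left _ _ (hmod k 1 (c * σ) (by rw [← huv, add_sub_cancel_left]; exact hv))
  let L : T → Type u := fun k => lat (ψS k) (J k)
  let φT : ∀ k : T, lat (ψS k) (J k) →ₗ[A] lat (ψS k) (J k) := fun k => a • LinearMap.id
  let ψT : ∀ k : T, lat (ψS k) (J k) →ₗ[A] lat (ψS k) (J k) := fun k => b • LinearMap.id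
  have hkill : ∀ (k : T) (x : lat (ψS k) (J k)), (a * b) • x = 0 := fun k x =>
    Subtype.ext (smul_eq_zero_of_mem (Ideal.mem_span_singleton_self _) _)
  have hlocal : ∀ k : T, FinCoh A (φT k) (ψT k) ∧ herbrand A (φT k) (ψT k) =
      -nu (q k.1) (TameAlg50.tame (Localization.AtPrime k.2.asIdeal)
        (algebraMap A (Localization.AtPrime k.2.asIdeal) a) (algebraMap A (Localization.AtPrime k.2.asIdeal) b)) := by
    intro k
    haveI := TameAlg50.finite_residue (A := Localization.AtPrime (q k.1)) k.2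
    obtain ⟨π, hπ, hπf⟩ := hFac k.1 k.2
    obtain ⟨w, e, hwe⟩ := hπf 0
    obtain ⟨z, f, hzf⟩ := hπf 1
    simp only [TameAlg50.locs, Matrix.cons_val_zero, Matrix.cons_val_one,
      ← IsScalarTower.algebraMap_apply A (Localization.AtPrime (q k.1)) (Localization.AtPrime k.2.asIdeal)] at hwe hzf
    have hJ : J k = Ideal.span {π ^ (e + f)} := by
      show Ideal.span {algebraMap A _ (a * b)} = _
      rw [map_mul, hwe, hzf, show (w : Localization.AtPrime k.2.asIdeal) * π ^ e * ((z : Localization.AtPrime k.2.asIdeal) * π ^ f) =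
        ((w * z : (Localization.AtPrime k.2.asIdeal)ˣ) : Localization.AtPrime k.2.asIdeal) * π ^ (e + f) by
        rw [Units.val_mul, pow_add]; ring]
      exact Ideal.span_singleton_mul_left_unit (w * z).isUnit _
    have key := herbrand_local (q k.1) (ψS k) hπ (e + f) (by rw [← hJ]; exact hnil k) (by rw [← hJ]; exact hsurj k)
      (hmax_of hA htnz (hqm k.1) (htq k.1))
      (Module.length_ne_top_iff.2 (isFiniteLength_quotient_span_singleton _ hπ)) (htq k.1) w z rfl hwe hzf
    rw [← hJ, mulL_algebraMap, mulL_algebraMap] at key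
    exact key
  -- the exact complex on `C / ab C`
  have hmain := sum_herbrand (A := A) hreg q hV (T := T) (fun k => k.1) (fun k => lat (ψS k) (J k))
    (fun k => ((Ideal.Quotient.mkₐ A (J k)).comp (ψS k)).toLinearMap.rangeRestrict) hkill (fun k => (hlocal k).1)
    (fun j c hx => by
      have hmem : ψ j c ∈ Ideal.span {algebraMap A (B j) (a * b)} := by
        refine Ideal.mem_of_localization_maximal fun P hP => ?_
        have h := congrArg Subtype.val (hx ⟨j, ⟨P, hP⟩⟩ rfl)
        rw [Ideal.map_span, Set.image_singleton, ← IsScalarTower.algebraMap_apply]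
        exact Ideal.Quotient.eq_zero_iff_mem.1 h
      obtain ⟨β, hβ⟩ := Ideal.mem_span_singleton'.1 hmem
      obtain ⟨s, hs, d, hd⟩ := hlift j β
      haveI := hψ j
      have heq : (ψ j).toLinearMap (s • c) = (ψ j).toLinearMap ((a * b) • d) := by
        show (ψ j).toLinearMap (s • c) = _
        rw [map_smul (ψ j).toLinearMap, map_smul (ψ j).toLinearMap, AlgHom.toLinearMap_apply,
          AlgHom.toLinearMap_apply, ← hd, ← hβ, Algebra.smul_def, Algebra.smul_def, Algebra.smul_def]
        ring
      obtain ⟨s', hs'⟩ := (IsLocalizedModule.eq_iff_exists (q j).primeCompl (ψ j).toLinearMap).1 heq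
      refine ⟨s' * s, fun h => (Ideal.IsPrime.mem_or_mem inferInstance h).elim s'.2 hs, s'.1 • d, ?_⟩
      rw [mul_smul, show s'.1 • s • c = s'.1 • (a * b) • d from hs', smul_comm])
    (by
      intro j k hk
      obtain ⟨x, hx, hxj⟩ := SetLike.not_le_iff_exists.1 fun hle : q k.1 ≤ q j => hk (hinj
        (Glue50.Punctured.eq_of_le hA htnz inferInstance inferInstance (hqm j) (htq k.1) hle))
      refine ⟨x ^ K k, fun h => hxj (Ideal.IsPrime.mem_of_pow_mem inferInstance _ h), fun y => Subtype.ext ?_⟩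
      refine smul_eq_zero_of_mem ?_ _
      rw [map_pow]
      refine hK k (Ideal.pow_mem_pow ?_ _)
      rw [IsScalarTower.algebraMap_apply A (Localization.AtPrime (q k.1))]
      exact map_nonunit _ _ ((IsLocalization.AtPrime.to_map_mem_maximal_iff _ (q k.1) _).2 hx))
    (fun j y => by
      choose c hc using fun P : MaximalSpectrum (B j) => (y ⟨j, P⟩).2
      obtain ⟨β, hβ⟩ := Ideal.exists_forall_sub_mem_ideal (I := fun P : MaximalSpectrum (B j) => P.asIdeal ^ K ⟨j, P⟩)
        (fun P P' hne => (Ideal.isCoprime_of_isMaximal fun h => hne (MaximalSpectrum.ext h)).pow)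
        (fun P => ψ j (c P))
      obtain ⟨s, hs, d, hd⟩ := hlift j β
      refine ⟨s, hs, d, fun k hk => ?_⟩
      obtain ⟨i, P⟩ := k
      obtain rfl : i = j := hk
      refine Subtype.ext ?_
      show Ideal.Quotient.mk (J ⟨i, P⟩) (algebraMap (B i) _ (ψ i d)) =
        s • (y ⟨i, P⟩ : Localization.AtPrime P.asIdeal ⧸ J ⟨i, P⟩)
      rw [← hd, ← hc P]
      show _ = s • Ideal.Quotient.mk (J ⟨i, P⟩) (algebraMap (B i) _ (ψ i (c P)))
      rw [← Ideal.Quotient.mkₐ_eq_mk A, ← IsScalarTower.coe_toAlgHom' A (B i) (Localization.AtPrime P.asIdeal),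
        map_smul, map_smul]
      congr 1
      exact Ideal.Quotient.eq.2 (hmod ⟨i, P⟩ β (ψ i (c P)) (hβ P)))
    (fun i => inferInstance)
  rw [Finset.sum_congr rfl (fun k _ => (hlocal k).2), Finset.sum_neg_distrib, neg_eq_zero,
    Fintype.sum_sigma] at hmain
  rw [← hmain]
  refine Finset.sum_congr rfl fun i _ => ?_
  rw [TameAlg50.tameSymbol_eq_val (hdim i) (algebraMap_mem_nonZeroDivisors (q i) ha)
    (algebraMap_mem_nonZeroDivisors (q i) hb) (B i) (hExt i) (hFac i), TameAlg50.val, finprod_eq_prod_of_fintype]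
  haveI : ∀ P : MaximalSpectrum (B i), IsLocalHom (algebraMap (Localization.AtPrime (q i)) (Localization.AtPrime P.asIdeal)) :=
    fun P => TameAlg50.isLocalHom_atPrime P
  have hne : ∀ P : MaximalSpectrum (B i), Algebra.norm (ResidueField (Localization.AtPrime (q i)))
      (TameAlg50.tame (Localization.AtPrime P.asIdeal)
        (algebraMap (Localization.AtPrime (q i)) (Localization.AtPrime P.asIdeal) (algebraMap A _ a))
        (algebraMap (Localization.AtPrime (q i)) (Localization.AtPrime P.asIdeal) (algebraMap A _ b))) ≠ 0 := fun P => by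
    haveI := TameAlg50.finite_residue (A := Localization.AtPrime (q i)) P
    exact fun h => TameAlg50.tame_ne_zero (by
      obtain ⟨π, hπ, hπf⟩ := hFac i P
      exact ⟨π, hπ, fun j => by fin_cases j <;> [exact hπf 0; exact hπf 1]⟩) (Algebra.norm_eq_zero_iff.1 h)
  rw [ordFrac_prod _ _ hne]
  refine Finset.sum_congr rfl fun P _ => ?_
  simp only [nu, ← IsScalarTower.algebraMap_apply]


theorem sum_eq_zero (hA : ringKrullDim A = 2) {a b : A} (ha : a ∈ nonZeroDivisors A)
    (hb : b ∈ nonZeroDivisors A) {r : ℕ} (q : Fin r → Ideal A) [∀ i, (q i).IsPrime]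
    (hinj : Function.Injective q) (hqm : ∀ i, q i ≠ maximalIdeal A) (htq : ∀ i, a * b ∈ q i)
    (hV : ∀ p : Ideal A, p.IsPrime → a * b ∈ p → p = maximalIdeal A ∨ ∃ i, p = q i) :
    ∑ i, CycAlg.ordFrac (A ⧸ q i) (q i).ResidueField (CycAlg.tameSymbol (Localization.AtPrime (q i))
      (algebraMap A (Localization.AtPrime (q i)) a) (algebraMap A (Localization.AtPrime (q i)) b)) = 0 := by
  classical
  have htnz : a * b ∈ nonZeroDivisors A := mul_mem ha hb
  haveI hdimQ : ∀ i, Ring.KrullDimLE 1 (A ⧸ q i) := fun i => dimLE_of hA htnz (hqm i) (htq i)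
  have hdim : ∀ i, ringKrullDim (Localization.AtPrime (q i)) = 1 := fun i => dim_one hA htnz (hqm i) (htq i)
  haveI : ∀ i, Ring.KrullDimLE 1 (Localization.AtPrime (q i)) := fun i => Ring.krullDimLE_iff.2 (hdim i).le
  choose B iB iAB iF hExt hFac using fun i => TameAlg50.exists_ext_fac (hdim i)
    (![algebraMap A (Localization.AtPrime (q i)) a, algebraMap A (Localization.AtPrime (q i)) b])
    (fun j => by
      fin_cases j
      · exact algebraMap_mem_nonZeroDivisors (q i) ha
      · exact algebraMap_mem_nonZeroDivisors (q i) hb)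
  letI : ∀ i, CommRing (B i) := iB
  letI : ∀ i, Algebra (Localization.AtPrime (q i)) (B i) := iAB
  haveI : ∀ i, Module.Finite (Localization.AtPrime (q i)) (B i) := iF
  haveI : ∀ i, IsNoetherianRing (B i) := fun i => TameAlg50.isNoetherianRing_of_finite (A := Localization.AtPrime (q i))
  letI : ∀ i, Algebra A (B i) := fun i => Algebra.compHom (B i) (algebraMap A (Localization.AtPrime (q i)))
  haveI : ∀ i, IsScalarTower A (Localization.AtPrime (q i)) (B i) := fun i => IsScalarTower.of_algebraMap_eq fun _ => rfl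
  have htB : ∀ i, IsSMulRegular (B i) (a * b) := fun i x y e => by
    refine (hExt i).regular _ (algebraMap_mem_nonZeroDivisors (q i) htnz) ?_
    simp only [IsScalarTower.algebraMap_smul]
    exact e
  choose kk hkk using fun i => (hExt i).finExt.2.2
  let n := Finset.univ.sup kk
  have hcok : ∀ i (x : B i), (a * b) ^ n • x ∈ (algebraMap (Localization.AtPrime (q i)) (B i)).range := fun i x => by
    rw [← IsScalarTower.algebraMap_smul (Localization.AtPrime (q i)) ((a * b) ^ n) x, map_pow]
    exact hkk i _ (Ideal.pow_le_pow_right (Finset.le_sup (f := kk) (Finset.mem_univ i))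
      (Ideal.pow_mem_pow ((IsLocalization.AtPrime.to_map_mem_maximal_iff _ (q i) _).2 (htq i)) n)) x
  obtain ⟨C, hCfin, -, -, hC⟩ := Glue50.Punctured.exists_glue (B := B) hA htnz hinj hqm htq hV n hcok
    (fun i => (hExt i).finExt.1) htB
  choose ψ hψ' using hC
  have hψ : ∀ i, IsLocalizedModule (q i).primeCompl (ψ i).toLinearMap := fun i =>
    (isLocalizedModule_iff_isBaseChange (q i).primeCompl (Localization.AtPrime (q i)) _).2 (hψ' i)
  have hreg : ∀ x ∈ ({a, b} : Set A), Function.Injective (lsmul A C x) := fun x hx y z hyz => by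
    have hu : IsUnit (algebraMap A (Localization.Away (a * b)) x) := by
      have h := IsLocalization.Away.algebraMap_isUnit (S := Localization.Away (a * b)) (a * b)
      rw [map_mul] at h
      rcases hx with rfl | rfl
      · exact (IsUnit.mul_iff.1 h).1
      · exact (IsUnit.mul_iff.1 h).2
    have h2 : x • (y : Localization.Away (a * b)) = x • (z : Localization.Away (a * b)) :=
      congrArg Subtype.val hyz
    rw [Algebra.smul_def, Algebra.smul_def] at h2
    exact Subtype.ext (hu.mul_left_cancel h2)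
  exact sum_of_data hA ha hb q hinj hqm htq hV B hExt hFac C ψ hψ hreg

end Groth.Agent.Key50
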