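import Groth.Agent.CycAlg50.Basic
import Mathlib.LinearAlgebra.Pi

/-! Herbrand quotients: commuting endomorphisms and finite products. -/

set_option autoImplicit false
set_option linter.unusedSectionVars false

universe u v w

namespace Groth.Agent.Key50

open CycAlg LinearMap Groth.Agent.CycAlg50

variable {R : Type u} [CommRing R]

section Compose

variable {M : Type v} [AddCommGroup M] [Module R M] (φ ψ g : M →ₗ[R] M)
  (gr : range φ →ₗ[R] range φ) (hgr : ∀ w, (gr w : M) = g (w : M))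

include hgr

theorem length_comp (hper : IsPeriodic φ ψ) :
    Module.length R (perH (g ∘ₗ φ) ψ) = Module.length R (perH φ ψ) + Module.length R (perH gr 0) ∧
    Module.length R (perH ψ (g ∘ₗ φ)) =
      Module.length R (perH (0 : range φ →ₗ[R] range φ) gr) + Module.length R (perH ψ φ) := by
  have hg0 : ∀ w : M, g (φ w) ∈ range φ := fun w => hgr ⟨φ w, w, rfl⟩ ▸ (gr ⟨φ w, w, rfl⟩).2
  constructor
  · let i : perH φ ψ →ₗ[R] perH (g ∘ₗ φ) ψ :=
      Submodule.mapQ _ _ (Submodule.inclusion (show ker φ ≤ ker (g ∘ₗ φ) from fun y hy => by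
        simp [mem_ker.1 hy])) fun y hy => hy
    let j0 : ker (g ∘ₗ φ) →ₗ[R] ker gr :=
      (φ.rangeRestrict ∘ₗ (ker (g ∘ₗ φ)).subtype).codRestrict _ fun y =>
        Subtype.ext ((hgr _).trans (mem_ker.1 y.2))
    let j : perH (g ∘ₗ φ) ψ →ₗ[R] perH gr 0 :=
      Submodule.mapQ _ _ j0 fun y hy => by
        obtain ⟨w, hw⟩ := hy
        refine ⟨0, Subtype.ext ?_⟩
        show (0 : M) = φ y.1
        rw [show y.1 = ψ w from hw.symm, ← comp_apply φ ψ, hper.1, LinearMap.zero_apply]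
    refine Module.length_eq_add_of_exact i j (fun a b hab => ?_) (fun c => ?_)
      (fun c => ⟨fun hc => ?_, ?_⟩)
    · obtain ⟨a, rfl⟩ := cls_surjective a
      obtain ⟨b, rfl⟩ := cls_surjective b
      exact (cls_eq_iff a b).2 (((Submodule.Quotient.eq _).1 hab : _))
    · obtain ⟨⟨⟨_, y, rfl⟩, hw⟩, rfl⟩ := cls_surjective c
      exact ⟨cls _ _ ⟨y, mem_ker.2 ((hgr _).symm.trans (congrArg Subtype.val (mem_ker.1 hw)))⟩, rfl⟩
    · obtain ⟨y, rfl⟩ := cls_surjective c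
      obtain ⟨w, hw⟩ := (cls_eq_zero_iff (j0 y)).1 hc
      exact ⟨cls φ ψ ⟨y.1, (congrArg Subtype.val hw).symm⟩, rfl⟩
    · rintro ⟨c, rfl⟩
      obtain ⟨y, rfl⟩ := cls_surjective c
      exact (cls_eq_zero_iff (j0 _)).2 ⟨0, Subtype.ext (mem_ker.1 y.2).symm⟩
  · let i0 : ker (0 : range φ →ₗ[R] range φ) →ₗ[R] ker ψ :=
      ((range φ).subtype ∘ₗ (ker (0 : range φ →ₗ[R] range φ)).subtype).codRestrict _ fun w => by
        obtain ⟨v, hv⟩ := w.1.2
        show ψ w.1.1 = 0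
        rw [← hv, ← comp_apply ψ φ, hper.2, LinearMap.zero_apply]
    let i : perH (0 : range φ →ₗ[R] range φ) gr →ₗ[R] perH ψ (g ∘ₗ φ) :=
      Submodule.mapQ _ _ i0 fun w hw => by
        obtain ⟨⟨_, v, rfl⟩, hu⟩ := hw
        exact ⟨v, (hgr _).symm.trans (congrArg Subtype.val hu :)⟩
    let j : perH ψ (g ∘ₗ φ) →ₗ[R] perH ψ φ :=
      Submodule.mapQ _ _ LinearMap.id fun y hy => by
        obtain ⟨w, hw⟩ := hy
        obtain ⟨v, hv⟩ := hg0 w
        exact ⟨v, hv.trans hw⟩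
    refine Module.length_eq_add_of_exact i j ((injective_iff_map_eq_zero _).2 fun c hc => ?_)
      (fun c => ?_) (fun c => ⟨fun hc => ?_, ?_⟩)
    · obtain ⟨w, rfl⟩ := cls_surjective c
      obtain ⟨v, hv⟩ := (cls_eq_zero_iff (i0 w)).1 hc
      exact (cls_eq_zero_iff w).2 ⟨⟨φ v, v, rfl⟩, Subtype.ext ((hgr _).trans hv)⟩
    · obtain ⟨y, rfl⟩ := cls_surjective c
      exact ⟨cls ψ (g ∘ₗ φ) y, rfl⟩
    · obtain ⟨y, rfl⟩ := cls_surjective c
      obtain ⟨v, hv⟩ := (cls_eq_zero_iff y).1 hc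
      exact ⟨cls _ _ ⟨⟨y.1, v, hv⟩, rfl⟩, rfl⟩
    · rintro ⟨c, rfl⟩
      obtain ⟨w, rfl⟩ := cls_surjective c
      exact (cls_eq_zero_iff _).2 w.1.2

/-- Composing the first map with a commuting endomorphism. -/
theorem herbrand_comp (hper : IsPeriodic φ ψ) (hfin : FinCoh R φ ψ)
    (hz : FinCoh R (0 : range φ →ₗ[R] range φ) gr) :
    FinCoh R (g ∘ₗ φ) ψ ∧
      herbrand R (g ∘ₗ φ) ψ = herbrand R φ ψ - herbrand R (0 : range φ →ₗ[R] range φ) gr := by
  obtain ⟨e1, e2⟩ := length_comp φ ψ g gr hgr hper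
  unfold FinCoh herbrand
  rw [e1, e2, CycAlg50.toNat_add hfin.1 hz.2, CycAlg50.toNat_add hz.1 hfin.2]
  simp only [ENat.add_lt_top]
  refine ⟨⟨⟨hfin.1, hz.2⟩, hz.1, hfin.2⟩, ?_⟩
  push_cast
  ring

end Compose

theorem herbrand_symm {M N : Type v} [AddCommGroup M] [Module R M] [AddCommGroup N] [Module R N]
    (φ : M →ₗ[R] N) (ψ : N →ₗ[R] M) : herbrand R ψ φ = -herbrand R φ ψ := by
  unfold herbrand; ring

section Pi

variable {ι : Type w} [Fintype ι] {M : ι → Type v} [∀ i, AddCommGroup (M i)] [∀ i, Module R (M i)]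
  (φ ψ : ∀ i, M i →ₗ[R] M i)

theorem sum_lt_top_and_toNat {f : ι → ℕ∞} (s : Finset ι) (hf : ∀ i, f i < ⊤) :
    (∑ i ∈ s, f i) < ⊤ ∧ (∑ i ∈ s, f i).toNat = ∑ i ∈ s, (f i).toNat := by
  classical
  induction s using Finset.induction_on with
  | empty => simp
  | insert a s ha ih =>
    rw [Finset.sum_insert ha, Finset.sum_insert ha, CycAlg50.toNat_add (hf a) ih.1, ih.2]
    exact ⟨ENat.add_lt_top.2 ⟨hf a, ih.1⟩, rfl⟩

/-- The componentwise map. -/
def piMap : (∀ i, M i) →ₗ[R] ∀ i, M i := LinearMap.pi fun i => φ i ∘ₗ LinearMap.proj i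

theorem piMap_apply (x : ∀ i, M i) (i : ι) : piMap φ x i = φ i (x i) := rfl

theorem length_pi_perH : Module.length R (perH (piMap φ) (piMap ψ)) = ∑ i, Module.length R (perH (φ i) (ψ i)) := by
  let c : ker (piMap φ) →ₗ[R] ∀ i, ker (φ i) := LinearMap.pi fun i =>
    (LinearMap.proj i ∘ₗ (ker (piMap φ)).subtype).codRestrict _ fun x => congrFun (mem_ker.1 x.2) i
  let F : ker (piMap φ) →ₗ[R] ∀ i, perH (φ i) (ψ i) := LinearMap.pi fun i =>
    Submodule.mkQ _ ∘ₗ LinearMap.proj i ∘ₗ c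
  have hker : LinearMap.ker F = (range (piMap ψ)).submoduleOf (ker (piMap φ)) := by
    ext x
    constructor
    · intro hx
      have h : ∀ i, (x.1 i) ∈ range (ψ i) := fun i => (cls_eq_zero_iff (c x i)).1 (congrFun hx i)
      choose y hy using h
      exact ⟨y, funext hy⟩
    · rintro ⟨y, hy⟩
      exact funext fun i => (cls_eq_zero_iff (c x i)).2 ⟨y i, congrFun hy i⟩
  have hsurj : Function.Surjective F := by
    intro z
    choose y hy using fun i => cls_surjective (z i)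
    exact ⟨⟨fun i => (y i).1, mem_ker.2 (funext fun i => (y i).2)⟩, funext hy⟩
  rw [← Module.length_pi_of_fintype]
  exact ((Submodule.quotEquivOfEq _ _ hker.symm).trans (F.quotKerEquivOfSurjective hsurj)).length_eq

/-- The Herbrand quotient of a finite product. -/
theorem herbrand_pi (h : ∀ i, FinCoh R (φ i) (ψ i)) :
    FinCoh R (piMap φ) (piMap ψ) ∧ herbrand R (piMap φ) (piMap ψ) = ∑ i, herbrand R (φ i) (ψ i) := by
  unfold FinCoh herbrand
  rw [length_pi_perH, length_pi_perH, (sum_lt_top_and_toNat _ fun i => (h i).1).2,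
    (sum_lt_top_and_toNat _ fun i => (h i).2).2]
  refine ⟨⟨(sum_lt_top_and_toNat _ fun i => (h i).1).1, (sum_lt_top_and_toNat _ fun i => (h i).2).1⟩, ?_⟩
  rw [Finset.sum_sub_distrib]
  push_cast
  ring

end Pi

/-- Shapes: the Herbrand quotient only depends on the maps. -/
theorem herbrand_congr {M : Type v} [AddCommGroup M] [Module R M] {φ φ' ψ ψ' : M →ₗ[R] M}
    (h1 : φ = φ') (h2 : ψ = ψ') : herbrand R φ ψ = herbrand R φ' ψ' := by rw [h1, h2]

end Groth.Agent.Key50
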