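import Groth.Agent.Key50.Herbrand
import Groth.Agent.Len90.LatticeDet
import Mathlib.RingTheory.FiniteLength
import Mathlib.RingTheory.LocalRing.ResidueField.Ideal
import Mathlib.RingTheory.Norm.Defs
import Mathlib.RingTheory.SimpleModule.Basic

/-! The cokernel of a unit on a lattice in a module of finite length over a local extension. -/

set_option autoImplicit false
set_option linter.unusedSectionVars false
set_option linter.style.haveILetI false

universe u

namespace Groth.Agent.Key50

open CycAlg IsLocalRing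

variable {A : Type u} [CommRing A] (q : Ideal A) [q.IsPrime]
  {S : Type u} [CommRing S] [IsLocalRing S] [Algebra A S] [Algebra (Localization.AtPrime q) S]
  [IsScalarTower A (Localization.AtPrime q) S] [IsLocalHom (algebraMap (Localization.AtPrime q) S)]

/-- The order of the norm of the residue. -/
noncomputable def nu (x : ResidueField S) : ℤ :=
  CycAlg.ordFrac (A ⧸ q) q.ResidueField (Algebra.norm (ResidueField (Localization.AtPrime q)) x)

variable [IsNoetherianRing A] [Ring.KrullDimLE 1 (A ⧸ q)]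
  [Module.Finite (ResidueField (Localization.AtPrime q)) (ResidueField S)]

/-- The case of the residue field. -/
theorem herbrand_residue (X : Type u) [AddCommGroup X] [Module A X] [Module.Finite A X]
    (ι : X →ₗ[A] ResidueField S) (hι : Function.Injective ι)
    (hspan : ∀ v : ResidueField S, ∃ s : A, s ∉ q ∧ ∃ x, ι x = s • v) (u : Sˣ) (g : X →ₗ[A] X)
    (hg : ∀ x, ι (g x) = (u : S) • ι x) :
    FinCoh A (0 : X →ₗ[A] X) g ∧ herbrand A (0 : X →ₗ[A] X) g = nu q (residue S (u : S)) := by
  let Kq := ResidueField (Localization.AtPrime q)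
  letI : Algebra (A ⧸ q) (ResidueField S) :=
    ((algebraMap Kq (ResidueField S)).comp (algebraMap (A ⧸ q) Kq)).toAlgebra
  haveI : IsScalarTower (A ⧸ q) Kq (ResidueField S) := IsScalarTower.of_algebraMap_eq fun _ => rfl
  haveI : IsScalarTower A (A ⧸ q) (ResidueField S) := IsScalarTower.of_algebraMap_eq fun a => by
    show residue S (algebraMap A S a) = algebraMap Kq (ResidueField S) (algebraMap (A ⧸ q) Kq (Ideal.Quotient.mk q a))
    rw [IsScalarTower.algebraMap_apply A (Localization.AtPrime q) S]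
    rfl
  let M : Submodule (A ⧸ q) (ResidueField S) :=
    { (LinearMap.range ι).toAddSubmonoid with
      smul_mem' := fun r v hv => by
        obtain ⟨a, rfl⟩ := Ideal.Quotient.mk_surjective r
        rw [show Ideal.Quotient.mk q a • v = a • v from algebraMap_smul (A ⧸ q) a v]
        exact (LinearMap.range ι).smul_mem a hv }
  have hM : ∀ v, v ∈ M ↔ v ∈ LinearMap.range ι := fun v => Iff.rfl
  haveI : Submodule.IsLattice Kq M := by
    refine ⟨?_, ?_⟩
    · obtain ⟨T, hT⟩ := (Module.Finite.fg_top (R := A) (M := X)).map ι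
      refine ⟨T, le_antisymm (Submodule.span_le.2 fun v hv => ?_) fun v hv => ?_⟩
      · have : v ∈ (⊤ : Submodule A X).map ι := hT ▸ Submodule.subset_span hv
        rwa [Submodule.map_top] at this
      · refine Submodule.span_le_restrictScalars A (A ⧸ q) _ ?_
        rw [hT, Submodule.map_top]
        exact hv
    · rw [eq_top_iff]
      intro v _
      obtain ⟨s, hs, x, hx⟩ := hspan v
      have hne : algebraMap A Kq s ≠ 0 := fun h => hs (Ideal.algebraMap_residueField_eq_zero.1 h)
      have hv : v = (algebraMap A Kq s)⁻¹ • ι x := by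
        rw [hx, ← algebraMap_smul Kq s v, smul_smul, inv_mul_cancel₀ hne, one_smul]
      rw [hv]
      exact Submodule.smul_mem _ _ (Submodule.subset_span ⟨x, rfl⟩)
  have hu : residue S (u : S) ≠ 0 := (u.isUnit.map (residue S)).ne_zero
  let Φ : ResidueField S ≃ₗ[Kq] ResidueField S :=
    LinearEquiv.ofBijective (Algebra.lmul Kq (ResidueField S) (residue S (u : S)))
      ⟨fun a b h => mul_left_cancel₀ hu h, fun b => ⟨(residue S (u : S))⁻¹ * b, mul_inv_cancel_left₀ hu b⟩⟩
  let M' := M.map (Φ.toLinearMap.restrictScalars (A ⧸ q))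
  have hΦ : ∀ x, residue S (u : S) * ι x = ι (g x) := fun x => by
    rw [hg, Algebra.smul_def]; rfl
  have hM'mem : ∀ v, v ∈ M' ↔ ∃ x, ι (g x) = v := fun v => by
    constructor
    · rintro ⟨_, ⟨x, rfl⟩, rfl⟩
      exact ⟨x, (hΦ x).symm⟩
    · rintro ⟨x, rfl⟩
      exact ⟨ι x, ⟨x, rfl⟩, hΦ x⟩
  have hle : M' ≤ M := fun v hv => by
    obtain ⟨x, rfl⟩ := (hM'mem v).1 hv
    exact ⟨g x, rfl⟩
  haveI : Submodule.IsLattice Kq M' := Len90.isLattice_map M Φ
  have hginj : Function.Injective g := fun a b h => hι (mul_left_cancel₀ hu ((hΦ a).trans ((congrArg ι h).trans (hΦ b).symm)))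
  have h1 : Module.length A (perH g (0 : X →ₗ[A] X)) = 0 := by
    haveI : Subsingleton (LinearMap.ker g) := subsingleton_of_forall_eq 0 fun x => Subtype.ext
      (hginj ((LinearMap.mem_ker.1 x.2).trans (map_zero g).symm))
    exact Module.length_eq_zero
  let F : LinearMap.ker (0 : X →ₗ[A] X) →ₗ[A] (M ⧸ M'.submoduleOf M) :=
    { toFun := fun x => Submodule.Quotient.mk ⟨ι x, x.1, rfl⟩
      map_add' := fun x y => by rw [← Submodule.Quotient.mk_add]; exact congrArg _ (Subtype.ext (map_add ι x.1 y.1))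
      map_smul' := fun a x => by
        rw [RingHom.id_apply, ← Submodule.Quotient.mk_smul]
        exact congrArg _ (Subtype.ext (map_smul ι a x.1)) }
  have hFs : Function.Surjective F := fun z => by
    obtain ⟨⟨v, x, rfl⟩, rfl⟩ := Submodule.Quotient.mk_surjective _ z
    exact ⟨⟨x, rfl⟩, rfl⟩
  have hFk : LinearMap.ker F = (LinearMap.range g).submoduleOf (LinearMap.ker (0 : X →ₗ[A] X)) := by
    ext x
    show Submodule.Quotient.mk _ = 0 ↔ _
    rw [Submodule.Quotient.mk_eq_zero]
    show ι x.1 ∈ M' ↔ _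
    rw [hM'mem]
    exact ⟨fun ⟨y, hy⟩ => ⟨y, hι hy⟩, fun ⟨y, hy⟩ => ⟨y, congrArg ι hy⟩⟩
  have h2 : Module.length A (perH (0 : X →ₗ[A] X) g) = Len90.relLen M M' :=
    (((Submodule.quotEquivOfEq _ _ hFk.symm).trans (F.quotKerEquivOfSurjective hFs)).length_eq).trans
      (Module.length_eq_of_surjective (R := A ⧸ q) Ideal.Quotient.mk_surjective)
  have h3 : Len90.relLen M M' ≠ ⊤ := Len90.lattice_relLen_ne_top (K := Kq) M M'
  have h4 := Len90.dist_map_eq_ordFrac_det (A := A ⧸ q) M Φ
  rw [Len90.dist, inf_eq_right.2 hle] at h4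
  have h5 : Len90.relLen M' M' = 0 := by
    have : Subsingleton (M' ⧸ M'.submoduleOf M') :=
      Submodule.Quotient.subsingleton_iff.2 (Submodule.submoduleOf_self M')
    exact Module.length_eq_zero
  refine ⟨⟨by rw [h2]; exact h3.lt_top, by rw [h1]; exact ENat.top_pos⟩, ?_⟩
  rw [herbrand, h1, h2, nu, Algebra.norm_apply]
  have h6 : Φ.toLinearMap = LinearMap.mul Kq (ResidueField S) (residue S (u : S)) := rfl
  rw [h5] at h4
  refine h4.trans ?_
  rfl

/-- A unit on a lattice in a module of finite length. -/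
theorem herbrand_unit (u : Sˣ) {V : Type u} [AddCommGroup V] [Module S V] (hV : IsFiniteLength S V) :
    ∀ [Module A V] [IsScalarTower A S V] (X : Type u) [AddCommGroup X] [Module A X] [Module.Finite A X]
      (ι : X →ₗ[A] V), Function.Injective ι → (∀ v : V, ∃ s : A, s ∉ q ∧ ∃ x, ι x = s • v) →
      ∀ (g : X →ₗ[A] X), (∀ x, ι (g x) = (u : S) • ι x) →
        FinCoh A (0 : X →ₗ[A] X) g ∧
          ∃ n : ℕ, Module.length S V = n ∧ herbrand A (0 : X →ₗ[A] X) g = n * nu q (residue S (u : S)) := by
  induction hV with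
  | of_subsingleton =>
    intro _ _ X _ _ _ ι hι _ g _
    haveI : Subsingleton X := hι.subsingleton
    have h : ∀ (φ ψ : X →ₗ[A] X), Module.length A (perH φ ψ) = 0 := fun φ ψ => Module.length_eq_zero
    refine ⟨⟨by rw [h]; exact ENat.top_pos, by rw [h]; exact ENat.top_pos⟩, 0, by simp [Module.length_eq_zero], ?_⟩
    rw [herbrand, h, h]
    simp
  | @of_simple_quotient V _ _ N _ hN ih =>
    intro _ _ X _ _ _ ι hι hspan g hg
    let X' := (N.restrictScalars A).comap ι
    have hX' : ∀ x ∈ X', g x ∈ X' := fun x hx => by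
      show ι (g x) ∈ N
      rw [hg]; exact N.smul_mem _ hx
    have hgX : X' ≤ X'.comap g := hX'
    haveI : Module.Finite A X' := Module.Finite.iff_fg.2 (IsNoetherian.noetherian X')
    let ι' : X' →ₗ[A] N :=
      { toFun := fun x => ⟨ι x.1, x.2⟩
        map_add' := fun x y => Subtype.ext (map_add ι x.1 y.1)
        map_smul' := fun a x => Subtype.ext (map_smul ι a x.1) }
    let ι'' : (X ⧸ X') →ₗ[A] (V ⧸ N) := Submodule.liftQ X' ((N.mkQ.restrictScalars A) ∘ₗ ι) fun x hx => by
      rw [LinearMap.mem_ker]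
      exact (Submodule.Quotient.mk_eq_zero N).2 hx
    obtain ⟨hfin', n, hn, hh'⟩ := ih X' ι' (fun a b h => Subtype.ext (hι (congrArg Subtype.val h)))
      (fun v => by
        obtain ⟨s, hs, x, hx⟩ := hspan v.1
        exact ⟨s, hs, ⟨x, show ι x ∈ N from hx ▸ N.smul_of_tower_mem s v.2⟩, Subtype.ext hx⟩)
      (g.restrict hX') (fun x => Subtype.ext (hg x.1))
    obtain ⟨e⟩ : Nonempty ((V ⧸ N) ≃ₗ[S] ResidueField S) := by
      obtain ⟨m, hm, he⟩ := (isSimpleModule_iff_quot_maximal (R := S) (M := V ⧸ N)).1 ‹_›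
      obtain rfl := IsLocalRing.eq_maximalIdeal hm
      exact he
    obtain ⟨hfin'', hh''⟩ := herbrand_residue q (X ⧸ X') ((e.toLinearMap.restrictScalars A) ∘ₗ ι'')
      (by
        refine e.injective.comp ((injective_iff_map_eq_zero ι'').2 fun z hz => ?_)
        obtain ⟨x, rfl⟩ := Submodule.Quotient.mk_surjective _ z
        exact (Submodule.Quotient.mk_eq_zero X').2 ((Submodule.Quotient.mk_eq_zero N).1 hz))
      (fun w => by
        obtain ⟨v, hv⟩ := Submodule.Quotient.mk_surjective N (e.symm w)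
        obtain ⟨s, hs, x, hx⟩ := hspan v
        refine ⟨s, hs, Submodule.Quotient.mk x, ?_⟩
        show e (Submodule.Quotient.mk (ι x)) = s • w
        rw [hx, Submodule.Quotient.mk_smul, hv]
        exact (LinearMap.map_smul_of_tower e.toLinearMap s _).trans (congrArg (s • ·) (e.apply_symm_apply w)))
      u (X'.mapQ X' g hgX) (fun z => by
        obtain ⟨x, rfl⟩ := Submodule.Quotient.mk_surjective _ z
        show e (Submodule.Quotient.mk (ι (g x))) = (u : S) • e (Submodule.Quotient.mk (ι x))
        rw [hg, Submodule.Quotient.mk_smul, map_smul])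
    obtain ⟨-, hfin, -, hadd⟩ := CycAlg50.herbrand_shortExact (0 : X' →ₗ[A] X') (g.restrict hX')
      (0 : X →ₗ[A] X) g (0 : (X ⧸ X') →ₗ[A] (X ⧸ X')) (X'.mapQ X' g hgX)
      ⟨LinearMap.zero_comp _, LinearMap.comp_zero _⟩ X'.subtype X'.subtype X'.mkQ X'.mkQ
      (by simp) rfl (by simp) rfl
      Subtype.val_injective Subtype.val_injective (Submodule.mkQ_surjective _) (Submodule.mkQ_surjective _)
      (by rw [Submodule.range_subtype, Submodule.ker_mkQ]) (by rw [Submodule.range_subtype, Submodule.ker_mkQ])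
      (Or.inr (Or.inl ⟨hfin', hfin''⟩))
    refine ⟨hfin, n + 1, ?_, ?_⟩
    · rw [Module.length_eq_add_of_exact N.subtype N.mkQ N.injective_subtype N.mkQ_surjective
        (LinearMap.exact_subtype_mkQ N), hn, Module.length_eq_one]
      push_cast; rfl
    · rw [hadd, hh', hh'']
      push_cast; ring

end Groth.Agent.Key50
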