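import Groth.Agent.Key50.Lattice
import Groth.Agent.TameAlg50.Local
import Groth.Agent.Len90.OrdFrac
import Mathlib.RingTheory.Norm.Basic
import Mathlib.LinearAlgebra.FreeModule.Finite.Basic

/-! The Herbrand quotient of one component. -/

set_option autoImplicit false
set_option linter.unusedSectionVars false
set_option linter.style.haveILetI false

universe u

namespace Groth.Agent.Key50

open CycAlg IsLocalRing LinearMap

section Criterion

variable {A : Type u} [CommRing A] [IsNoetherianRing A] [IsLocalRing A]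

/-- A finite module killed outside the closed point has finite length. -/
theorem finite_of_killed (N : Type u) [AddCommGroup N] [Module A N] [Module.Finite A N]
    (h : ∀ p : PrimeSpectrum A, p.asIdeal ≠ maximalIdeal A → ∀ x : N, ∃ s : A, s ∉ p.asIdeal ∧ s • x = 0) :
    Module.length A N < ⊤ :=
  CycAlg50.length_lt_top_of_support fun p hp => by
    by_contra hmax
    obtain ⟨x, hx⟩ := Module.mem_support_iff'.1 hp
    obtain ⟨s, hs, hsx⟩ := h p (fun e => hmax (e ▸ IsLocalRing.maximalIdeal.isMaximal A)) x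
    exact hx s hs hsx

/-- Killed by powers of a prime of height one and locally at it. -/
theorem finite_of_killed_prime (q : Ideal A)
    (hmax : ∀ p : Ideal A, p.IsPrime → q ≤ p → p = q ∨ p = maximalIdeal A)
    (N : Type u) [AddCommGroup N] [Module A N] [Module.Finite A N]
    (h1 : ∀ r ∈ q, ∀ x : N, ∃ k : ℕ, r ^ k • x = 0) (h2 : ∀ x : N, ∃ s : A, s ∉ q ∧ s • x = 0) :
    Module.length A N < ⊤ :=
  finite_of_killed N fun p hp x => by
    by_cases hle : q ≤ p.asIdeal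
    · obtain rfl := ((hmax _ p.isPrime hle).resolve_right hp)
      exact h2 x
    · obtain ⟨r, hr, hrp⟩ := SetLike.not_le_iff_exists.1 hle
      obtain ⟨k, hk⟩ := h1 r hr x
      exact ⟨r ^ k, fun h => hrp (p.isPrime.mem_of_pow_mem _ h), hk⟩

end Criterion

variable {A : Type u} [CommRing A] [IsNoetherianRing A] [IsLocalRing A] (q : Ideal A) [q.IsPrime]
  [Ring.KrullDimLE 1 (A ⧸ q)]
  {S : Type u} [CommRing S] [IsLocalRing S] [Algebra A S] [Algebra (Localization.AtPrime q) S]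
  [IsScalarTower A (Localization.AtPrime q) S] [IsLocalHom (algebraMap (Localization.AtPrime q) S)]
  [Module.Finite (ResidueField (Localization.AtPrime q)) (ResidueField S)]

section Nu

theorem nu_mul {x y : ResidueField S} (hx : x ≠ 0) (hy : y ≠ 0) : nu q (x * y) = nu q x + nu q y := by
  rw [nu, map_mul, Len90.ordFrac_mul (A := A ⧸ q)]
  · rfl
  · exact fun h => hx (Algebra.norm_eq_zero_iff.1 h)
  · exact fun h => hy (Algebra.norm_eq_zero_iff.1 h)

theorem nu_one : nu q (1 : ResidueField S) = 0 := by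
  have := nu_mul q (one_ne_zero (α := ResidueField S)) one_ne_zero
  rw [mul_one] at this
  omega

theorem nu_inv {x : ResidueField S} (hx : x ≠ 0) : nu q x⁻¹ = -nu q x := by
  have := nu_mul q hx (inv_ne_zero hx)
  rw [mul_inv_cancel₀ hx, nu_one] at this
  omega

theorem nu_pow {x : ResidueField S} (hx : x ≠ 0) (n : ℕ) : nu q (x ^ n) = n * nu q x := by
  induction n with
  | zero => simp [nu_one]
  | succ n ih => rw [pow_succ, nu_mul q (pow_ne_zero n hx) hx, ih]; push_cast; ring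

theorem nu_neg_one : nu q (-1 : ResidueField S) = 0 := by
  have := nu_mul q (neg_ne_zero.2 (one_ne_zero (α := ResidueField S))) (neg_ne_zero.2 one_ne_zero)
  rw [neg_one_mul, neg_neg, nu_one] at this
  omega

end Nu

variable {C : Type u} [CommRing C] [Algebra A C] [Module.Finite A C] (ψ : C →ₐ[A] S) (J : Ideal S)

/-- The lattice of a component. -/
noncomputable def lat : Submodule A (S ⧸ J) := LinearMap.range ((Ideal.Quotient.mkₐ A J).comp ψ).toLinearMap

instance : Module.Finite A (lat ψ J) := Module.Finite.range _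

theorem lat_mul (c : C) {x : S ⧸ J} (hx : x ∈ lat ψ J) : Ideal.Quotient.mk J (ψ c) * x ∈ lat ψ J := by
  obtain ⟨d, rfl⟩ := hx
  exact ⟨c * d, by simp⟩

/-- The action of `C` on the lattice. -/
noncomputable def mulL (c : C) : lat ψ J →ₗ[A] lat ψ J :=
  (LinearMap.mulLeft A (Ideal.Quotient.mk J (ψ c))).restrict fun _ hx => lat_mul ψ J c hx

theorem mulL_apply (c : C) (x : lat ψ J) : (mulL ψ J c x : S ⧸ J) = Ideal.Quotient.mk J (ψ c) * x := rfl

theorem mulL_mul (c d : C) : mulL ψ J (c * d) = mulL ψ J c ∘ₗ mulL ψ J d :=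
  LinearMap.ext fun x => Subtype.ext (by simp [mulL_apply, mul_assoc])

theorem mulL_pow (c : C) (n : ℕ) : mulL ψ J (c ^ n) = mulL ψ J c ^ n := by
  induction n with
  | zero => exact LinearMap.ext fun x => Subtype.ext (by simp [mulL_apply])
  | succ n ih =>
    rw [pow_succ, mulL_mul, ih, pow_succ]
    rfl

theorem mulL_algebraMap (a : A) : mulL ψ J (algebraMap A C a) = a • LinearMap.id :=
  LinearMap.ext fun x => Subtype.ext (by
    simp only [mulL_apply, AlgHom.commutes, LinearMap.smul_apply, LinearMap.id_apply, SetLike.val_smul]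
    rw [Algebra.smul_def]
    rfl)

theorem mulL_congr {c d : C} (h : Ideal.Quotient.mk J (ψ c) = Ideal.Quotient.mk J (ψ d)) :
    mulL ψ J c = mulL ψ J d :=
  LinearMap.ext fun x => Subtype.ext (by rw [mulL_apply, mulL_apply, h])

variable {π : S} (hπ : π ∈ nonZeroDivisors S) (N : ℕ)
  (hnil : ∀ x ∈ maximalIdeal S, ∃ k, x ^ k ∈ Ideal.span {π ^ N})
  (hsurj : ∀ y : S, ∃ s : A, s ∉ q ∧ ∃ c : C, algebraMap A S s * y - ψ c ∈ Ideal.span {π ^ N})
  (hmax : ∀ p : Ideal A, p.IsPrime → q ≤ p → p = q ∨ p = maximalIdeal A)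

local notation "J₀" => Ideal.span {π ^ N}

include hsurj in
theorem exists_lift_mul (y : S) : ∃ s : A, s ∉ q ∧ ∃ x : lat ψ J₀, (x : S ⧸ J₀) = s • Ideal.Quotient.mk J₀ y := by
  obtain ⟨s, hs, c, hc⟩ := hsurj y
  refine ⟨s, hs, ⟨_, c, rfl⟩, ?_⟩
  rw [Algebra.smul_def, IsScalarTower.algebraMap_apply A S (S ⧸ J₀), Ideal.Quotient.algebraMap_eq, ← map_mul]
  exact (Ideal.Quotient.eq.2 hc).symm

include hnil in
theorem killed_pow {r : A} (hr : r ∈ q) (x : S ⧸ J₀) : ∃ k : ℕ, r ^ k • x = 0 := by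
  have h : algebraMap A S r ∈ maximalIdeal S := by
    rw [IsScalarTower.algebraMap_apply A (Localization.AtPrime q) S]
    exact map_nonunit _ _ ((IsLocalization.AtPrime.to_map_mem_maximal_iff (Localization.AtPrime q) q r).2 hr)
  obtain ⟨k, hk⟩ := hnil _ h
  refine ⟨k, ?_⟩
  rw [Algebra.smul_def, IsScalarTower.algebraMap_apply A S (S ⧸ J₀), Ideal.Quotient.algebraMap_eq, map_pow,
    Ideal.Quotient.eq_zero_iff_mem.2 hk, zero_mul]

include hπ hnil hsurj hmax in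
theorem finite_mul {c d : C} (u v : Sˣ) {i k : ℕ} (hik : i + k = N)
    (hc : Ideal.Quotient.mk J₀ (ψ c) = Ideal.Quotient.mk J₀ (u * π ^ i))
    (hd : Ideal.Quotient.mk J₀ (ψ d) = Ideal.Quotient.mk J₀ (v * π ^ k)) :
    Module.length A (perH (mulL ψ J₀ c) (mulL ψ J₀ d)) < ⊤ := by
  refine finite_of_killed_prime q hmax _ (fun r hr => ?_) fun x => ?_
  · intro x
    obtain ⟨y, rfl⟩ := CycAlg50.cls_surjective x
    obtain ⟨n, hn⟩ := killed_pow q N hnil hr (y.1.1)
    exact ⟨n, (Submodule.Quotient.mk_smul _ _ _).symm.trans (by rw [show r ^ n • y = 0 from Subtype.ext (Subtype.ext hn)]; rfl)⟩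
  · obtain ⟨⟨⟨x, hx⟩, hker⟩, rfl⟩ := CycAlg50.cls_surjective x
    obtain ⟨y, rfl⟩ := Ideal.Quotient.mk_surjective x
    have h : Ideal.Quotient.mk J₀ (ψ c) * Ideal.Quotient.mk J₀ y = 0 :=
      congrArg Subtype.val (LinearMap.mem_ker.1 hker)
    rw [hc, ← map_mul, Ideal.Quotient.eq_zero_iff_mem, Ideal.mem_span_singleton'] at h
    obtain ⟨z, hz⟩ := h
    have hy : y = π ^ k * ((↑u⁻¹ : S) * z) := by
      refine (mul_cancel_left_mem_nonZeroDivisors (pow_mem hπ i)).1 ?_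
      calc π ^ i * y = (↑u⁻¹ : S) * ((u : S) * π ^ i * y) := by rw [mul_assoc, Units.inv_mul_cancel_left]
        _ = π ^ i * (π ^ k * ((↑u⁻¹ : S) * z)) := by rw [← hz, ← hik, pow_add]; ring
    obtain ⟨s, hs, x', hx'⟩ := exists_lift_mul q ψ N hsurj ((↑v⁻¹ : S) * ((↑u⁻¹ : S) * z))
    refine ⟨s, hs, ?_⟩
    refine (Submodule.Quotient.mk_smul _ _ _).symm.trans ((CycAlg50.cls_eq_zero_iff _).2 ?_)
    refine ⟨x', Subtype.ext ?_⟩
    show Ideal.Quotient.mk J₀ (ψ d) * (x' : S ⧸ J₀) = s • Ideal.Quotient.mk J₀ y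
    rw [hx', hd, mul_smul_comm, ← map_mul, hy]
    congr 2
    calc (v : S) * π ^ k * ((↑v⁻¹ : S) * ((↑u⁻¹ : S) * z))
        = ((v : S) * (↑v⁻¹ : S)) * (π ^ k * ((↑u⁻¹ : S) * z)) := by ring
      _ = π ^ k * ((↑u⁻¹ : S) * z) := by rw [Units.mul_inv, one_mul]

include hπ hnil hsurj hmax in
theorem periodic_finCoh {c d : C} (u v : Sˣ) {i k : ℕ} (hik : i + k = N)
    (hc : Ideal.Quotient.mk J₀ (ψ c) = Ideal.Quotient.mk J₀ (u * π ^ i))
    (hd : Ideal.Quotient.mk J₀ (ψ d) = Ideal.Quotient.mk J₀ (v * π ^ k)) :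
    IsPeriodic (mulL ψ J₀ c) (mulL ψ J₀ d) ∧ FinCoh A (mulL ψ J₀ c) (mulL ψ J₀ d) := by
  have h0 : Ideal.Quotient.mk J₀ (ψ (c * d)) = 0 := by
    rw [map_mul, map_mul, hc, hd, ← map_mul, Ideal.Quotient.eq_zero_iff_mem, ← hik, pow_add]
    exact Ideal.mem_span_singleton'.2 ⟨u * v, by ring⟩
  refine ⟨⟨?_, ?_⟩, finite_mul q ψ hπ N hnil hsurj hmax u v hik hc hd,
    finite_mul q ψ hπ N hnil hsurj hmax v u ((Nat.add_comm k i).trans hik) hd hc⟩
  · rw [← mulL_mul]
    exact LinearMap.ext fun x => Subtype.ext (by rw [mulL_apply, h0, zero_mul]; rfl)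
  · rw [← mulL_mul, mul_comm]
    exact LinearMap.ext fun x => Subtype.ext (by rw [mulL_apply, h0, zero_mul]; rfl)

variable (hN : Ring.ord S π ≠ ⊤)

include hπ hnil hsurj hN in
theorem herbrand_range {c d : C} (u v : Sˣ) {i k : ℕ} (hik : i + k = N)
    (hc : Ideal.Quotient.mk J₀ (ψ c) = Ideal.Quotient.mk J₀ (u : S))
    (hd : Ideal.Quotient.mk J₀ (ψ d) = Ideal.Quotient.mk J₀ (v * π ^ k)) :
    ∃ gr : range (mulL ψ J₀ d) →ₗ[A] range (mulL ψ J₀ d),
      (∀ w, (gr w : lat ψ J₀) = mulL ψ J₀ c (w : lat ψ J₀)) ∧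
      FinCoh A (M := range (mulL ψ J₀ d)) (N := range (mulL ψ J₀ d)) 0 gr ∧
      herbrand A (M := range (mulL ψ J₀ d)) (N := range (mulL ψ J₀ d)) 0 gr =
        ((i * (Ring.ord S π).toNat : ℕ) : ℤ) * nu q (residue S (u : S)) := by
  have hres : ∀ w ∈ range (mulL ψ J₀ d), mulL ψ J₀ c w ∈ range (mulL ψ J₀ d) := by
    rintro _ ⟨x, rfl⟩
    exact ⟨mulL ψ J₀ c x, by rw [← LinearMap.comp_apply, ← LinearMap.comp_apply, ← mulL_mul, ← mulL_mul, mul_comm]⟩
  refine ⟨(mulL ψ J₀ c).restrict hres, fun w => rfl, ?_⟩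
  let T : S →ₗ[S] S ⧸ J₀ := LinearMap.toSpanSingleton S _ (Ideal.Quotient.mk J₀ (π ^ k))
  have hT : ∀ y, T y = Ideal.Quotient.mk J₀ (y * π ^ k) := fun y => by
    rw [LinearMap.toSpanSingleton_apply, Algebra.smul_def, Ideal.Quotient.algebraMap_eq, ← map_mul]
  let V : Submodule S (S ⧸ J₀) := range T
  have hker : ker T = Ideal.span {π ^ i} := by
    ext y
    rw [LinearMap.mem_ker, hT, Ideal.Quotient.eq_zero_iff_mem, Ideal.mem_span_singleton', Ideal.mem_span_singleton']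
    constructor
    · rintro ⟨z, hz⟩
      refine ⟨z, (mul_cancel_right_mem_nonZeroDivisors (pow_mem hπ k)).1 ?_⟩
      rw [← hz, ← hik, pow_add, mul_assoc]
    · rintro ⟨z, rfl⟩
      exact ⟨z, by rw [← hik, pow_add, mul_assoc]⟩
  have hlen : Module.length S V = ((i * (Ring.ord S π).toNat : ℕ) : ℕ∞) := by
    rw [← ((Submodule.quotEquivOfEq _ _ hker.symm).trans T.quotKerEquivRange).length_eq]
    show Ring.ord S (π ^ i) = _
    rw [TameAlg50.ord_pow hπ, Nat.cast_mul, ENat.natCast_toNat hN]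
  have hV : IsFiniteLength S V := Module.length_ne_top_iff.1 (by rw [hlen]; exact ENat.natCast_ne_top _)
  have hι : ∀ w : range (mulL ψ J₀ d), ((w : lat ψ J₀) : S ⧸ J₀) ∈ V := by
    rintro ⟨_, x, rfl⟩
    obtain ⟨y, hy⟩ := Ideal.Quotient.mk_surjective (x : S ⧸ J₀)
    refine ⟨v * y, ?_⟩
    show T (v * y) = Ideal.Quotient.mk J₀ (ψ d) * (x : S ⧸ J₀)
    rw [hT, hd, ← hy, ← map_mul]
    congr 1; ring
  obtain ⟨hfin, n, hn, hh⟩ := herbrand_unit q u hV (range (mulL ψ J₀ d))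
    { toFun := fun w => ⟨_, hι w⟩
      map_add' := fun a b => rfl
      map_smul' := fun a b => rfl }
    (fun a b h => Subtype.ext (Subtype.ext (Subtype.ext_iff.1 h :))) (by
      rintro ⟨_, y, rfl⟩
      obtain ⟨s, hs, x, hx⟩ := exists_lift_mul q ψ N hsurj ((↑v⁻¹ : S) * y)
      refine ⟨s, hs, ⟨_, x, rfl⟩, Subtype.ext ?_⟩
      show Ideal.Quotient.mk J₀ (ψ d) * (x : S ⧸ J₀) = s • T y
      rw [hx, hd, mul_smul_comm, ← map_mul, hT]
      congr 2
      calc (v : S) * π ^ k * ((↑v⁻¹ : S) * y) = ((v : S) * (↑v⁻¹ : S)) * (y * π ^ k) := by ring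
        _ = y * π ^ k := by rw [Units.mul_inv, one_mul])
    ((mulL ψ J₀ c).restrict hres) (fun w => Subtype.ext (by
      show Ideal.Quotient.mk J₀ (ψ c) * ((w : lat ψ J₀) : S ⧸ J₀) = (u : S) • ((w : lat ψ J₀) : S ⧸ J₀)
      rw [hc, Algebra.smul_def, Ideal.Quotient.algebraMap_eq]))
  refine ⟨hfin, ?_⟩
  rw [hh, Nat.cast_inj.1 (hn.symm.trans hlen)]

include hπ hnil hsurj hmax hN in
/-- The Herbrand quotient when `C` contains the parameter. -/
theorem herbrand_comp_eq {a b : A} (c0 : C) (w z : Sˣ) {e f : ℕ} (hef : e + f = N) (hpos : 0 < N)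
    (hc0 : Ideal.Quotient.mk J₀ (ψ c0) = Ideal.Quotient.mk J₀ π)
    (ha : algebraMap A S a = w * π ^ e) (hb : algebraMap A S b = z * π ^ f) :
    FinCoh A (mulL ψ J₀ (algebraMap A C a)) (mulL ψ J₀ (algebraMap A C b)) ∧
      herbrand A (mulL ψ J₀ (algebraMap A C a)) (mulL ψ J₀ (algebraMap A C b)) =
        -(((f * (Ring.ord S π).toNat : ℕ) : ℤ) * nu q (residue S (w : S)) -
          ((e * (Ring.ord S π).toNat : ℕ) : ℤ) * nu q (residue S (z : S))) := by
  obtain ⟨s1, hs1, c1, hc1⟩ := hsurj (w : S)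
  obtain ⟨s2, hs2, c2, hc2⟩ := hsurj (z : S)
  have hsu : ∀ {s : A}, s ∉ q → IsUnit (algebraMap A S s) := fun {s} hs => by
    rw [IsScalarTower.algebraMap_apply A (Localization.AtPrime q) S]
    exact (IsLocalization.map_units (Localization.AtPrime q) (⟨s, hs⟩ : q.primeCompl)).map _
  let σ1 := (hsu hs1).unit
  let σ2 := (hsu hs2).unit
  have hσ1 : (σ1 : S) = algebraMap A S s1 := rfl
  have hσ2 : (σ2 : S) = algebraMap A S s2 := rfl
  have hψa : ∀ x : A, Ideal.Quotient.mk J₀ (ψ (algebraMap A C x)) = Ideal.Quotient.mk J₀ (algebraMap A S x) :=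
    fun x => by rw [AlgHom.commutes]
  have hc1' : Ideal.Quotient.mk J₀ (ψ c1) = Ideal.Quotient.mk J₀ ((σ1 * w : Sˣ) : S) := by
    rw [Units.val_mul, hσ1]; exact (Ideal.Quotient.eq.2 hc1).symm
  have hc2' : Ideal.Quotient.mk J₀ (ψ c2) = Ideal.Quotient.mk J₀ ((σ2 * z : Sˣ) : S) := by
    rw [Units.val_mul, hσ2]; exact (Ideal.Quotient.eq.2 hc2).symm
  have hS1 : Ideal.Quotient.mk J₀ (ψ (algebraMap A C s1)) = Ideal.Quotient.mk J₀ (σ1 : S) := by rw [hψa, hσ1]
  have hS2 : Ideal.Quotient.mk J₀ (ψ (algebraMap A C s2)) = Ideal.Quotient.mk J₀ (σ2 : S) := by rw [hψa, hσ2]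
  have hp : ∀ n : ℕ, Ideal.Quotient.mk J₀ (ψ (c0 ^ n)) = Ideal.Quotient.mk J₀ (((1 : Sˣ) : S) * π ^ n) := fun n => by
    rw [map_pow, map_pow, hc0, Units.val_one, one_mul, map_pow]
  have hA' : Ideal.Quotient.mk J₀ (ψ (algebraMap A C a)) = Ideal.Quotient.mk J₀ (w * π ^ e) := by rw [hψa, ha]
  have hB' : Ideal.Quotient.mk J₀ (ψ (algebraMap A C b)) = Ideal.Quotient.mk J₀ (z * π ^ f) := by rw [hψa, hb]
  have heqA : mulL ψ J₀ (algebraMap A C s1) ∘ₗ mulL ψ J₀ (algebraMap A C a) = mulL ψ J₀ c1 ∘ₗ mulL ψ J₀ (c0 ^ e) := by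
    rw [← mulL_mul, ← mulL_mul]
    refine mulL_congr ψ J₀ ?_
    rw [map_mul, map_mul, map_mul, map_mul, hS1, hA', hc1', hp, Units.val_mul, Units.val_one, one_mul]
    simp only [map_mul, mul_assoc]
  have heqB : mulL ψ J₀ (algebraMap A C s2) ∘ₗ mulL ψ J₀ (algebraMap A C b) = mulL ψ J₀ c2 ∘ₗ mulL ψ J₀ (c0 ^ f) := by
    rw [← mulL_mul, ← mulL_mul]
    refine mulL_congr ψ J₀ ?_
    rw [map_mul, map_mul, map_mul, map_mul, hS2, hB', hc2', hp, Units.val_mul, Units.val_one, one_mul]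
    simp only [map_mul, mul_assoc]
  -- the side of the powers of the parameter
  obtain ⟨hperP, hfinP⟩ := periodic_finCoh q ψ hπ N hnil hsurj hmax 1 1 hef (hp e) (hp f)
  have hzero : herbrand A (mulL ψ J₀ (c0 ^ e)) (mulL ψ J₀ (c0 ^ f)) = 0 := by
    have h1 : mulL ψ J₀ c0 ^ N = 0 := by
      rw [← mulL_pow]
      refine LinearMap.ext fun x => Subtype.ext ?_
      rw [mulL_apply, hp, Units.val_one, one_mul, Ideal.Quotient.eq_zero_iff_mem.2 (Ideal.mem_span_singleton_self _), zero_mul]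
      rfl
    have h2 := finite_mul q ψ hπ N hnil hsurj hmax (c := c0) (d := c0 ^ (N - 1)) 1 1
      (show 1 + (N - 1) = N by omega) (by simpa using hp 1) (hp (N - 1))
    rw [mulL_pow] at h2
    have h3 := (CycAlg50.herbrand_pow hpos h1 h2 e (by omega)).2
    rw [show N - e = f by omega] at h3
    rwa [mulL_pow, mulL_pow]
  obtain ⟨gr1, hgr1, hf1, he1⟩ := herbrand_range q ψ hπ N hnil hsurj hN (σ1 * w) 1
    (show f + e = N by omega) hc1' (hp e)
  obtain ⟨hfinP1, heP1⟩ := herbrand_comp _ _ _ gr1 hgr1 hperP hfinP hf1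
  have hperP1 : IsPeriodic (mulL ψ J₀ c1 ∘ₗ mulL ψ J₀ (c0 ^ e)) (mulL ψ J₀ (c0 ^ f)) := by
    constructor
    · rw [LinearMap.comp_assoc, hperP.1, LinearMap.comp_zero]
    · rw [← mulL_mul, ← mulL_mul, mul_left_comm, mulL_mul, mulL_mul, hperP.2, LinearMap.comp_zero]
  obtain ⟨gr2, hgr2, hf2, he2⟩ := herbrand_range q ψ hπ N hnil hsurj hN (σ2 * z) 1 hef hc2' (hp f)
  obtain ⟨-, heP2⟩ := herbrand_comp _ _ _ gr2 hgr2 ⟨hperP1.2, hperP1.1⟩ ⟨hfinP1.2, hfinP1.1⟩ hf2
  -- the side of the scalars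
  obtain ⟨hperQ, hfinQ⟩ := periodic_finCoh q ψ hπ N hnil hsurj hmax w z hef hA' hB'
  refine ⟨hfinQ, ?_⟩
  obtain ⟨gs1, hgs1, hg1, hs1e⟩ := herbrand_range q ψ hπ N hnil hsurj hN σ1 w
    (show f + e = N by omega) hS1 hA'
  obtain ⟨hfinQ1, heQ1⟩ := herbrand_comp _ _ _ gs1 hgs1 hperQ hfinQ hg1
  have hperQ1 : IsPeriodic (mulL ψ J₀ (algebraMap A C s1) ∘ₗ mulL ψ J₀ (algebraMap A C a))
      (mulL ψ J₀ (algebraMap A C b)) := by
    constructor
    · rw [LinearMap.comp_assoc, hperQ.1, LinearMap.comp_zero]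
    · rw [← mulL_mul, ← mulL_mul, mul_left_comm, mulL_mul, mulL_mul, hperQ.2, LinearMap.comp_zero]
  obtain ⟨gs2, hgs2, hg2, hs2e⟩ := herbrand_range q ψ hπ N hnil hsurj hN σ2 z hef hS2 hB'
  obtain ⟨-, heQ2⟩ := herbrand_comp _ _ _ gs2 hgs2 ⟨hperQ1.2, hperQ1.1⟩ ⟨hfinQ1.2, hfinQ1.1⟩ hg2
  have hu : ∀ x : Sˣ, residue S (x : S) ≠ 0 := fun x => (x.isUnit.map (residue S)).ne_zero
  have hP := herbrand_congr (R := A) heqB.symm heqA.symm
  rw [heP2, herbrand_symm, heP1, hzero, he1, he2, heQ2, herbrand_symm, heQ1, hs1e, hs2e, Units.val_mul,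
    Units.val_mul, map_mul, map_mul, nu_mul q (hu σ1) (hu w), nu_mul q (hu σ2) (hu z)] at hP
  linarith

include hπ hnil hsurj hmax hN in
/-- The Herbrand quotient of a component is minus the order of the norm of the symbol. -/
theorem herbrand_local {a b : A} (hab : a * b ∈ q) (w z : Sˣ) {e f : ℕ} (hef : e + f = N)
    (ha : algebraMap A S a = w * π ^ e) (hb : algebraMap A S b = z * π ^ f) :
    FinCoh A (mulL ψ J₀ (algebraMap A C a)) (mulL ψ J₀ (algebraMap A C b)) ∧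
      herbrand A (mulL ψ J₀ (algebraMap A C a)) (mulL ψ J₀ (algebraMap A C b)) =
        -nu q (TameAlg50.tame S (algebraMap A S a) (algebraMap A S b)) := by
  have hpos : 0 < N := by
    by_contra h0
    have h1 : algebraMap A S (a * b) ∈ maximalIdeal S := by
      rw [IsScalarTower.algebraMap_apply A (Localization.AtPrime q) S]
      exact map_nonunit _ _ ((IsLocalization.AtPrime.to_map_mem_maximal_iff (Localization.AtPrime q) q _).2 hab)
    rw [map_mul, ha, hb, show e = 0 by omega, show f = 0 by omega] at h1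
    exact (mem_maximalIdeal _).1 h1 (by simpa using w.isUnit.mul z.isUnit)
  obtain ⟨s0, hs0, c0, hc0⟩ := hsurj π
  obtain ⟨σ, hσ⟩ : IsUnit (algebraMap A S s0) := by
    rw [IsScalarTower.algebraMap_apply A (Localization.AtPrime q) S]
    exact (IsLocalization.map_units (Localization.AtPrime q) (⟨s0, hs0⟩ : q.primeCompl)).map _
  have hassoc : ∀ n, Ideal.span {((σ : S) * π) ^ n} = Ideal.span {π ^ n} := fun n => by
    rw [mul_pow]; exact Ideal.span_singleton_mul_left_unit (σ.isUnit.pow n) _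
  have hπ' : (σ : S) * π ∈ nonZeroDivisors S := mul_mem σ.isUnit.mem_nonZeroDivisors hπ
  have hord : Ring.ord S ((σ : S) * π) = Ring.ord S π := TameAlg50.ord_unit_mul σ π
  have ha' : algebraMap A S a = ((w * (σ ^ e)⁻¹ : Sˣ) : S) * ((σ : S) * π) ^ e := by
    rw [ha, mul_pow, Units.val_mul, mul_assoc, ← mul_assoc (((σ ^ e)⁻¹ : Sˣ) : S), ← Units.val_pow_eq_pow_val,
      Units.inv_mul, one_mul]
  have hb' : algebraMap A S b = ((z * (σ ^ f)⁻¹ : Sˣ) : S) * ((σ : S) * π) ^ f := by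
    rw [hb, mul_pow, Units.val_mul, mul_assoc, ← mul_assoc (((σ ^ f)⁻¹ : Sˣ) : S), ← Units.val_pow_eq_pow_val,
      Units.inv_mul, one_mul]
  have key := herbrand_comp_eq q ψ hπ' N (by rw [hassoc]; exact hnil) (by rw [hassoc]; exact hsurj) hmax
    (by rw [hord]; exact hN) c0 _ _ hef hpos
    (Ideal.Quotient.eq.2 (by rw [hassoc, hσ, ← neg_sub]; exact neg_mem hc0)) ha' hb'
  rw [hassoc] at key
  refine ⟨key.1, key.2.trans ?_⟩
  have hu : ∀ x : Sˣ, residue S (x : S) ≠ 0 := fun x => (x.isUnit.map (residue S)).ne_zero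
  rw [TameAlg50.tame_eq_factor hπ' _ _ e f ha' hb', nu_pow, nu_mul, nu_mul, nu_inv, nu_pow, nu_pow, nu_pow,
    nu_neg_one]
  · push_cast; ring
  all_goals simp [hu]

end Groth.Agent.Key50
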